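import Cfsg.Agent.ClassicalGeometry.HermOrtho
import Cfsg.Agent.ClassicalGeometry.PSUAutCount

/-!
# Adapted orthonormal bases for unitary matrices with scalar square (helper251, for S3026)

`A` an isometry of the Hermitian form with `A² = λ`.

* `exists_diag` : `λ = μ²`, `μ ^ (q + 1) = 1`: orthonormal basis of eigenvectors `±μ`;
* `exists_pair` : `λ = ν²`, `ν ^ (q + 1) = -1`: orthonormal basis `v_i, A v_i`.
-/

set_option autoImplicit false

namespace Cfsg.Agent.H251.Unf

open Cfsg Module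
open Cfsg.Agent.LieClassical.HermBasic Cfsg.Agent.ClassicalGeometry.HermOrtho

variable {F : Type*} [Field F] [Fintype F] {q n : ℕ}

/-- the orthogonal complement of an orthonormal family in a non-degenerate subspace -/
theorem peel (hF : Fintype.card F = q ^ 2) {ι : Type*} [Fintype ι] [DecidableEq ι] (W : Submodule F (Fin n → F))
    (hW : ∀ u ∈ W, (∀ v ∈ W, hermForm n F q u v = 0) → u = 0) {c : ι → (Fin n → F)} (hcW : ∀ i, c i ∈ W)
    (hc : ∀ i j, hermForm n F q (c i) (c j) = if i = j then 1 else 0) :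
    ∃ W' : Submodule F (Fin n → F), (∀ w, w ∈ W' ↔ w ∈ W ∧ ∀ i, hermForm n F q w (c i) = 0) ∧
      (∀ u ∈ W', (∀ v ∈ W', hermForm n F q u v = 0) → u = 0) ∧ finrank F W = Fintype.card ι + finrank F W' := by
  obtain ⟨W', hW'⟩ : ∃ W' : Submodule F (Fin n → F), W' = W ⊓ hermPerp q (Set.range c) := ⟨_, rfl⟩
  have hmem : ∀ w, w ∈ W' ↔ w ∈ W ∧ ∀ i, hermForm n F q w (c i) = 0 := by
    intro w
    rw [hW', Submodule.mem_inf, mem_hermPerp]
    constructor
    · rintro ⟨h1, h2⟩
      exact ⟨h1, fun i => h2 _ ⟨i, rfl⟩⟩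
    · rintro ⟨h1, h2⟩
      exact ⟨h1, by rintro _ ⟨i, rfl⟩; exact h2 i⟩
  have hdec : ∀ w ∈ W, w - ∑ i, hermForm n F q w (c i) • c i ∈ W' := by
    intro w hw
    rw [hmem]
    refine ⟨W.sub_mem hw (W.sum_mem fun i _ => W.smul_mem _ (hcW i)), fun i => ?_⟩
    rw [herm_sub_left, herm_sum_smul_left hc, sub_self]
  refine ⟨W', hmem, ?_, ?_⟩
  · intro u hu h
    refine hW u ((hmem u).1 hu).1 fun w hw => ?_
    have h1 := h _ (hdec w hw)
    rw [herm_sub_right hF, herm_sum_right hF] at h1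
    rw [Finset.sum_eq_zero, sub_zero] at h1
    · exact h1
    · intro i _
      rw [herm_smul_right, ((hmem u).1 hu).2 i, mul_zero]
  · obtain ⟨S, hS⟩ : ∃ S : Submodule F (Fin n → F), S = Submodule.span F (Set.range c) := ⟨_, rfl⟩
    have hSW : S ≤ W := by
      rw [hS, Submodule.span_le]
      rintro _ ⟨i, rfl⟩
      exact hcW i
    have h1 : S ⊔ W' = W := by
      apply le_antisymm
      · exact sup_le hSW (fun w hw => ((hmem w).1 hw).1)
      · intro w hw
        have h2 : w = ∑ i, hermForm n F q w (c i) • c i + (w - ∑ i, hermForm n F q w (c i) • c i) := by abel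
        rw [h2]
        refine Submodule.add_mem_sup ?_ (hdec w hw)
        rw [hS]
        exact Submodule.sum_mem _ fun i _ => Submodule.smul_mem _ _ (Submodule.subset_span ⟨i, rfl⟩)
    have h2 : S ⊓ W' = ⊥ := by
      rw [Submodule.eq_bot_iff]
      rintro w ⟨hw, hw'⟩
      rw [SetLike.mem_coe, hS, Submodule.mem_span_range_iff_exists_fun] at hw
      obtain ⟨a, rfl⟩ := hw
      refine Finset.sum_eq_zero fun i _ => ?_
      have h3 := ((hmem _).1 hw').2 i
      rw [herm_sum_smul_left hc] at h3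
      rw [h3, zero_smul]
    have h3 := Submodule.finrank_sup_add_finrank_inf_eq S W'
    rw [h1, h2, finrank_bot, add_zero] at h3
    rw [h3, hS, finrank_span_eq_card (linearIndependent_of_orthonormal hc)]

/-- a vector of norm one in an eigenspace -/
theorem exists_eig (hF : Fintype.card F = q ^ 2) (h2 : (2 : F) ≠ 0) (A : (Fin n → F) →ₗ[F] (Fin n → F))
    (hA : ∀ u v, hermForm n F q (A u) (A v) = hermForm n F q u v) {μ : F} (hμ : μ * μ ^ q = 1)
    (hAA : ∀ v, A (A v) = (μ * μ) • v) (W : Submodule F (Fin n → F)) (hWA : ∀ w ∈ W, A w ∈ W)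
    (hW : ∀ u ∈ W, (∀ v ∈ W, hermForm n F q u v = 0) → u = 0) (hW0 : W ≠ ⊥) :
    ∃ v ∈ W, hermForm n F q v v = 1 ∧ ∃ ε : F, (ε = 1 ∨ ε = -1) ∧ A v = (ε * μ) • v := by
  have hμ0 : μ ≠ 0 := by
    rintro rfl
    rw [zero_mul] at hμ
    exact zero_ne_one hμ
  obtain ⟨u, hu, huu⟩ := exists_norm_one_vector hF W hW hW0
  have heig : ∀ ε : F, (ε = 1 ∨ ε = -1) → A (u + (ε * μ⁻¹) • A u) = (ε * μ) • (u + (ε * μ⁻¹) • A u) := by
    intro ε hε
    have hε2 : ε * ε = 1 := by rcases hε with rfl | rfl <;> ring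
    rw [map_add, map_smul, hAA, smul_add, smul_smul, smul_smul, add_comm]
    congr 1
    · congr 1
      field_simp
    · rw [show ε * μ * (ε * μ⁻¹) = ε * ε * (μ * μ⁻¹) by ring, hε2, mul_inv_cancel₀ hμ0, one_mul, one_smul]
  have hex : ∃ ε : F, (ε = 1 ∨ ε = -1) ∧
      hermForm n F q (u + (ε * μ⁻¹) • A u) (u + (ε * μ⁻¹) • A u) ≠ 0 := by
    by_contra hcon
    push Not at hcon
    have h3 := hcon 1 (Or.inl rfl)
    have h4 := hcon (-1) (Or.inr rfl)
    have hcA : hermForm n F q (A u) (A u) = 1 := by rw [hA, huu]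
    have hm : (μ⁻¹) * (μ⁻¹) ^ q = 1 := by rw [inv_pow, ← mul_inv, hμ, inv_one]
    have h5 : ∀ a : F, hermForm n F q (u + a • A u) (u + a • A u) =
        1 + a ^ q * hermForm n F q u (A u) + (a * hermForm n F q (A u) u + a * a ^ q) := by
      intro a
      rw [herm_add_left, herm_add_right hF, herm_add_right hF, herm_smul_left, herm_smul_left, herm_smul_right,
        herm_smul_right, huu, hcA, mul_one]
    rw [h5] at h3 h4
    rw [one_mul] at h3
    rw [neg_mul, one_mul, neg_pow_q hF] at h4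
    apply h2
    have h6 : (2 : F) * 2 = 0 := by linear_combination h3 + h4 - 2 * hm
    rcases mul_self_eq_zero.1 h6 with h
    exact h
  obtain ⟨ε, hε, hne⟩ := hex
  have hw : u + (ε * μ⁻¹) • A u ∈ W := W.add_mem hu (W.smul_mem _ (hWA u hu))
  obtain ⟨a, ha⟩ := exists_norm_eq hF (c := (hermForm n F q (u + (ε * μ⁻¹) • A u) (u + (ε * μ⁻¹) • A u))⁻¹)
    (by rw [inv_pow, herm_self_pow hF])
  refine ⟨a • (u + (ε * μ⁻¹) • A u), W.smul_mem a hw, ?_, ε, hε, ?_⟩
  · rw [herm_smul_left, herm_smul_right, ← mul_assoc, ha, inv_mul_cancel₀ hne]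
  · rw [map_smul, heig ε hε, smul_comm]

/-- **Diagonal form.** -/
theorem exists_diag_aux (hF : Fintype.card F = q ^ 2) (h2 : (2 : F) ≠ 0) (A : (Fin n → F) →ₗ[F] (Fin n → F))
    (hA : ∀ u v, hermForm n F q (A u) (A v) = hermForm n F q u v) {μ : F} (hμ : μ * μ ^ q = 1)
    (hAA : ∀ v, A (A v) = (μ * μ) • v) (k : ℕ) : ∀ (W : Submodule F (Fin n → F)), (∀ w ∈ W, A w ∈ W) →
    (∀ u ∈ W, (∀ v ∈ W, hermForm n F q u v = 0) → u = 0) → finrank F W = k →
    ∃ b : Fin k → (Fin n → F), (∀ i, b i ∈ W) ∧ (∀ i j, hermForm n F q (b i) (b j) = if i = j then 1 else 0) ∧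
      ∀ i, ∃ ε : F, (ε = 1 ∨ ε = -1) ∧ A (b i) = (ε * μ) • b i := by
  induction k with
  | zero =>
    intro W _ _ _
    exact ⟨fun i => i.elim0, fun i => i.elim0, fun i => i.elim0, fun i => i.elim0⟩
  | succ k ih =>
    intro W hWA hW hk
    have hW0 : W ≠ ⊥ := by
      rintro rfl
      rw [finrank_bot] at hk
      omega
    have hμ0 : μ ≠ 0 := by
      rintro rfl
      rw [zero_mul] at hμ
      exact zero_ne_one hμ
    obtain ⟨v, hv, hvv, ε, hε, hAv⟩ := exists_eig hF h2 A hA hμ hAA W hWA hW hW0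
    have hε0 : ε ≠ 0 := by
      rcases hε with rfl | rfl
      · exact one_ne_zero
      · exact neg_ne_zero.2 one_ne_zero
    obtain ⟨W', hmem, hnd, hrk⟩ := peel hF (ι := Fin 1) W hW (c := fun _ => v) (fun _ => hv) (fun i j => by
      rw [if_pos (Subsingleton.elim i j)]; exact hvv)
    have hmem' : ∀ w, w ∈ W' ↔ w ∈ W ∧ hermForm n F q w v = 0 := by
      intro w
      rw [hmem]
      exact ⟨fun h => ⟨h.1, h.2 0⟩, fun h => ⟨h.1, fun _ => h.2⟩⟩
    obtain ⟨b, hb, hbb, hbA⟩ := ih W' (by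
      intro w hw
      rw [hmem'] at hw ⊢
      refine ⟨hWA w hw.1, ?_⟩
      have h3 := hA w v
      rw [hw.2, hAv, herm_smul_right] at h3
      rcases mul_eq_zero.1 h3 with h4 | h4
      · exact absurd ((pow_q_eq_zero hF).1 h4) (mul_ne_zero hε0 hμ0)
      · exact h4) hnd (by
      rw [hk, Fintype.card_fin] at hrk
      omega)
    refine ⟨Fin.cons v b, ?_, ?_, ?_⟩
    · intro i
      refine Fin.cases ?_ (fun i => ?_) i
      · exact hv
      · exact ((hmem' _).1 (hb i)).1
    · intro i j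
      refine Fin.cases ?_ (fun i => ?_) i <;> refine Fin.cases ?_ (fun j => ?_) j
      · simpa using hvv
      · rw [Fin.cons_zero, Fin.cons_succ, if_neg (Fin.succ_ne_zero j).symm]
        exact herm_eq_zero_swap hF ((hmem' _).1 (hb j)).2
      · rw [Fin.cons_zero, Fin.cons_succ, if_neg (Fin.succ_ne_zero i)]
        exact ((hmem' _).1 (hb i)).2
      · rw [Fin.cons_succ, Fin.cons_succ, hbb]
        simp [Fin.succ_inj]
    · intro i
      refine Fin.cases ?_ (fun i => ?_) i
      · exact ⟨ε, hε, hAv⟩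
      · exact hbA i

/-- a vector `v` of norm one with `v ⊥ A v` -/
theorem exists_swap (hF : Fintype.card F = q ^ 2) (h2 : (2 : F) ≠ 0) (A : (Fin n → F) →ₗ[F] (Fin n → F))
    (hA : ∀ u v, hermForm n F q (A u) (A v) = hermForm n F q u v) {ν : F} (hν : ν * ν ^ q = -1)
    (hAA : ∀ v, A (A v) = (ν * ν) • v) (W : Submodule F (Fin n → F)) (hWA : ∀ w ∈ W, A w ∈ W)
    (hW : ∀ u ∈ W, (∀ v ∈ W, hermForm n F q u v = 0) → u = 0) (hW0 : W ≠ ⊥) :
    ∃ v ∈ W, hermForm n F q v v = 1 ∧ hermForm n F q v (A v) = 0 := by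
  have hν0 : ν ≠ 0 := by
    rintro rfl
    rw [zero_mul] at hν
    exact one_ne_zero (neg_eq_zero.1 hν.symm)
  obtain ⟨u, hu, huu⟩ := exists_norm_one_vector hF W hW hW0
  obtain ⟨x, hx⟩ : ∃ x, x = (2 : F)⁻¹ • (u + ν⁻¹ • A u) := ⟨_, rfl⟩
  obtain ⟨y, hy⟩ : ∃ y, y = (2 : F)⁻¹ • (u - ν⁻¹ • A u) := ⟨_, rfl⟩
  have hxW : x ∈ W := by rw [hx]; exact W.smul_mem _ (W.add_mem hu (W.smul_mem _ (hWA u hu)))
  have hyW : y ∈ W := by rw [hy]; exact W.smul_mem _ (W.sub_mem hu (W.smul_mem _ (hWA u hu)))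
  have hxy : u = x + y := by
    rw [hx, hy, ← smul_add, add_add_sub_cancel, ← two_smul F u, smul_smul, inv_mul_cancel₀ h2, one_smul]
  have hAx : A x = ν • x := by
    rw [hx, map_smul, map_add, map_smul, hAA]
    funext i
    simp only [Pi.add_apply, Pi.smul_apply, smul_eq_mul]
    field_simp
    ring
  have hAy : A y = (-ν) • y := by
    rw [hy, map_smul, map_sub, map_smul, hAA]
    funext i
    simp only [Pi.sub_apply, Pi.smul_apply, smul_eq_mul]
    field_simp
    ring
  have hxx : hermForm n F q x x = 0 := by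
    have h3 := hA x x
    rw [hAx, herm_smul_left, herm_smul_right, ← mul_assoc, hν] at h3
    have h4 : (2 : F) * hermForm n F q x x = 0 := by linear_combination -h3
    exact (mul_eq_zero.1 h4).resolve_left h2
  have hyy : hermForm n F q y y = 0 := by
    have h3 := hA y y
    rw [hAy, herm_smul_left, herm_smul_right, ← mul_assoc, neg_pow_q hF, neg_mul_neg, hν] at h3
    have h4 : (2 : F) * hermForm n F q y y = 0 := by linear_combination -h3
    exact (mul_eq_zero.1 h4).resolve_left h2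
  obtain ⟨c, hc⟩ : ∃ c, c = hermForm n F q x y := ⟨_, rfl⟩
  have hyx : hermForm n F q y x = c ^ q := by rw [hc, ← herm_swap hF]
  have hc0 : c ≠ 0 := by
    intro h0
    rw [hxy, herm_add_left, herm_add_right hF, herm_add_right hF, hxx, hyy, hyx, ← hc, h0, zero_pow_q hF] at huu
    apply one_ne_zero (α := F)
    rw [← huu]; ring
  obtain ⟨β, hβ⟩ : ∃ β : F, β = ((2 * c)⁻¹) ^ q := ⟨_, rfl⟩
  have hβq : β ^ q = (2 * c)⁻¹ := by rw [hβ, pow_q_pow_q hF]
  have h1 : β ^ q * c = 2⁻¹ := by rw [hβq]; field_simp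
  have h2q : ((2 : F)⁻¹) ^ q = 2⁻¹ := by
    rw [inv_pow]
    congr 1
    have := add_pow_q hF (1 : F) 1
    rw [one_pow, one_add_one_eq_two] at this
    exact this
  have h3 : β * c ^ q = 2⁻¹ := by
    have h4 : (β ^ q * c) ^ q = 2⁻¹ := by rw [h1, h2q]
    rw [mul_pow, pow_q_pow_q hF] at h4
    exact h4
  refine ⟨x + β • y, W.add_mem hxW (W.smul_mem _ hyW), ?_, ?_⟩
  · rw [herm_add_left, herm_add_right hF, herm_add_right hF, herm_smul_left, herm_smul_left, herm_smul_right,
      herm_smul_right, hxx, hyy, hyx, ← hc, h1, h3]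
    rw [mul_zero, mul_zero, zero_add, add_zero]
    field_simp
    norm_num
  · rw [map_add, map_smul, hAx, hAy, smul_smul]
    rw [herm_add_left, herm_add_right hF, herm_add_right hF, herm_smul_left, herm_smul_left, herm_smul_right,
      herm_smul_right, herm_smul_right, herm_smul_right, hxx, hyy, hyx, ← hc, mul_pow, neg_pow_q hF]
    linear_combination (-(ν ^ q)) * h1 + (ν ^ q) * h3

/-- **Pair form.** -/
theorem exists_pair_aux (hF : Fintype.card F = q ^ 2) (h2 : (2 : F) ≠ 0) (A : (Fin n → F) →ₗ[F] (Fin n → F))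
    (hA : ∀ u v, hermForm n F q (A u) (A v) = hermForm n F q u v) {ν : F} (hν : ν * ν ^ q = -1)
    (hAA : ∀ v, A (A v) = (ν * ν) • v) (k : ℕ) : ∀ (W : Submodule F (Fin n → F)), (∀ w ∈ W, A w ∈ W) →
    (∀ u ∈ W, (∀ v ∈ W, hermForm n F q u v = 0) → u = 0) → finrank F W = k →
    ∃ (m : ℕ) (b : Fin m × Fin 2 → (Fin n → F)), k = m * 2 ∧ (∀ i, b i ∈ W) ∧
      (∀ i j, hermForm n F q (b i) (b j) = if i = j then 1 else 0) ∧
      ∀ i, A (b (i, 0)) = b (i, 1) ∧ A (b (i, 1)) = (ν * ν) • b (i, 0) := by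
  induction k using Nat.strong_induction_on with
  | _ k ih =>
    intro W hWA hW hk
    by_cases hW0 : W = ⊥
    · refine ⟨0, fun i => i.1.elim0, ?_, fun i => i.1.elim0, fun i => i.1.elim0, fun i => i.elim0⟩
      rw [← hk, hW0, finrank_bot]
    obtain ⟨v, hv, hvv, hvA⟩ := exists_swap hF h2 A hA hν hAA W hWA hW hW0
    have hν0 : ν ≠ 0 := by
      rintro rfl
      rw [zero_mul] at hν
      exact one_ne_zero (neg_eq_zero.1 hν.symm)
    have horth : ∀ i j : Fin 2, hermForm n F q ((![v, A v] : Fin 2 → (Fin n → F)) i) ((![v, A v] : Fin 2 → (Fin n → F)) j) =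
        if i = j then 1 else 0 := by
      intro i j
      fin_cases i <;> fin_cases j
      · simpa using hvv
      · simpa using hvA
      · simpa using herm_eq_zero_swap hF hvA
      · simpa using (hA v v).trans hvv
    obtain ⟨W', hmem, hnd, hrk⟩ := peel hF (ι := Fin 2) W hW (c := ![v, A v]) (fun i => by
      fin_cases i
      · exact hv
      · exact hWA v hv) horth
    have hmem' : ∀ w, w ∈ W' ↔ w ∈ W ∧ hermForm n F q w v = 0 ∧ hermForm n F q w (A v) = 0 := by
      intro w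
      rw [hmem]
      refine ⟨fun h => ⟨h.1, h.2 0, h.2 1⟩, fun h => ⟨h.1, fun i => ?_⟩⟩
      fin_cases i
      · exact h.2.1
      · exact h.2.2
    rw [Fintype.card_fin, hk] at hrk
    obtain ⟨m, b, hkm, hb, hbb, hbA⟩ := ih (finrank F W') (by omega) W' (by
      intro w hw
      rw [hmem'] at hw ⊢
      refine ⟨hWA w hw.1, ?_, ?_⟩
      · have h3 := hA (A w) v
        have h4 := hA w (A v)
        rw [hw.2.2, hAA v, herm_smul_right] at h4
        rcases mul_eq_zero.1 h4 with h5 | h5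
        · exact absurd ((pow_q_eq_zero hF).1 h5) (mul_ne_zero hν0 hν0)
        · exact h5
      · rw [hA]; exact hw.2.1) hnd rfl
    have hbv : ∀ i, hermForm n F q (b i) v = 0 ∧ hermForm n F q (b i) (A v) = 0 := fun i => ((hmem' _).1 (hb i)).2
    refine ⟨m + 1, fun i => Fin.cases (![v, A v] i.2) (fun j => b (j, i.2)) i.1, by omega, ?_, ?_, ?_⟩
    · rintro ⟨i, l⟩
      refine Fin.cases ?_ (fun i => ?_) i
      · fin_cases l
        · exact hv
        · exact hWA v hv
      · exact ((hmem' _).1 (hb (i, l))).1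
    · rintro ⟨i, l⟩ ⟨j, l'⟩
      refine Fin.cases ?_ (fun i => ?_) i <;> refine Fin.cases ?_ (fun j => ?_) j
      · have h3 := horth l l'
        simp only [Fin.cases_zero, Prod.mk.injEq, true_and]
        exact h3
      · simp only [Fin.cases_zero, Fin.cases_succ, Prod.mk.injEq, (Fin.succ_ne_zero j).symm, false_and, if_false]
        apply herm_eq_zero_swap hF
        fin_cases l
        · exact (hbv _).1
        · exact (hbv _).2
      · simp only [Fin.cases_zero, Fin.cases_succ, Prod.mk.injEq, Fin.succ_ne_zero i, false_and, if_false]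
        fin_cases l'
        · exact (hbv _).1
        · exact (hbv _).2
      · simp only [Fin.cases_succ, Prod.mk.injEq, Fin.succ_inj]
        rw [hbb]
        simp only [Prod.mk.injEq]
    · intro i
      refine Fin.cases ?_ (fun i => ?_) i
      · exact ⟨rfl, hAA v⟩
      · exact hbA i

end Cfsg.Agent.H251.Unf
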