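import Cfsg.Agent.H880.ClPsuE
import Cfsg.Agent.H709.GmnPSU
import Cfsg.Agent.H751.Big.Val2

/-!
# The monomial subgroup of `PSU_n(q)`, `q ≡ 3 mod 4`, has odd index (helper251, for S3026)
-/

set_option autoImplicit false
set_option linter.unusedSectionVars false

namespace Cfsg.Agent.H251.Unf

open Cfsg Matrix Subgroup
open Cfsg.Agent.LieClassical.HermBasic Cfsg.Agent.LieClassical.SUBasic Cfsg.Agent.LieClassical.HermSiegel
open Cfsg.Agent.ClassicalGeometry.PSUAutBasic
open Cfsg.Agent.ClassicalGeometry.PSUAutCount (toAut gm gm_mul gm_one gm_mul_inv gm_inv_mul guConj act_guConj gm_inj)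
open Cfsg.Agent.H880.Cl

/-- `|N : H ∩ N|` divides `|G : H|` for `N` normal. -/
theorem relIndex_dvd_index {G : Type*} [Group G] [Finite G] (H N : Subgroup G) [N.Normal] : H.relIndex N ∣ H.index := by
  have h1 : (H ⊓ N).relIndex N * N.relIndex (H ⊔ N) = (H ⊓ N).relIndex (H ⊔ N) :=
    relIndex_mul_relIndex _ _ _ inf_le_right le_sup_right
  have h2 : (H ⊓ N).relIndex H * H.relIndex (H ⊔ N) = (H ⊓ N).relIndex (H ⊔ N) :=
    relIndex_mul_relIndex _ _ _ inf_le_left le_sup_left
  rw [inf_relIndex_right, relIndex_sup_right] at h1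
  rw [inf_relIndex_left, ← h1, mul_comm] at h2
  have h3 : 0 < N.relIndex H := Nat.pos_of_ne_zero (by
    unfold relIndex
    exact index_ne_zero_of_finite)
  have h4 : H.relIndex (H ⊔ N) = H.relIndex N := Nat.eq_of_mul_eq_mul_right h3 h2
  rw [← h4]
  exact relIndex_dvd_index_of_le le_sup_left

/-! ### numbers -/

theorem val_term {q : ℕ} (hq : q % 4 = 3) (i : ℕ) :
    padicValNat 2 (if Even i then q ^ (i + 1) + 1 else q ^ (i + 1) - 1) =
      padicValNat 2 (q + 1) + padicValNat 2 (i + 1) := by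
  have hp : Fact (Nat.Prime 2) := ⟨Nat.prime_two⟩
  have hodd : Odd q := Nat.odd_iff.2 (by omega)
  have h1 : 1 < q := by omega
  split_ifs with h
  · rw [H751.Big.val_odd_add hodd h1 h.add_one, H751.val_odd h.add_one, add_zero]
  · obtain ⟨m, hm⟩ : ∃ m, i + 1 = 2 * m := by
      have h1 : Even (i + 1) := (Nat.not_even_iff_odd.1 h).add_one
      obtain ⟨m, hm⟩ := h1
      exact ⟨m, by omega⟩
    have hm0 : m ≠ 0 := by omega
    have h3 : padicValNat 2 (q - 1) = 1 := by
      obtain ⟨k, hk⟩ : ∃ k, q - 1 = 2 * (2 * k + 1) := ⟨q / 4, by omega⟩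
      rw [hk, H751.val_mul (by norm_num) (by omega), padicValNat_self, H751.val_odd ⟨k, rfl⟩]
    rw [hm, H751.Big.val_even_sub hodd h1 hm0, h3, H751.val_mul (by norm_num) hm0, padicValNat_self]
    ring

theorem val_prod {q : ℕ} (hq : q % 4 = 3) (n : ℕ) :
    (∏ i ∈ Finset.range n, (if Even i then q ^ (i + 1) + 1 else q ^ (i + 1) - 1)) ≠ 0 ∧
    padicValNat 2 (∏ i ∈ Finset.range n, (if Even i then q ^ (i + 1) + 1 else q ^ (i + 1) - 1)) =
      padicValNat 2 ((q + 1) ^ n * n.factorial) := by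
  have hp : Fact (Nat.Prime 2) := ⟨Nat.prime_two⟩
  have hq2 : 2 ≤ q := by omega
  induction n with
  | zero => simp
  | succ n ih =>
    obtain ⟨ih1, ih2⟩ := ih
    have h0 : (if Even n then q ^ (n + 1) + 1 else q ^ (n + 1) - 1) ≠ 0 := by
      split_ifs
      · omega
      · have : 2 ^ (n + 1) ≤ q ^ (n + 1) := Nat.pow_le_pow_left hq2 _
        have : 2 ≤ 2 ^ (n + 1) := by
          rw [pow_succ]
          have := Nat.one_le_two_pow (n := n)
          omega
        omega
    rw [Finset.prod_range_succ]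
    refine ⟨mul_ne_zero ih1 h0, ?_⟩
    rw [padicValNat.mul ih1 h0, ih2, val_term hq, Nat.factorial_succ, pow_succ]
    have h1 : (q + 1) ^ n ≠ 0 := pow_ne_zero _ (by omega)
    have h2 : n.factorial ≠ 0 := Nat.factorial_ne_zero n
    rw [padicValNat.mul h1 h2, padicValNat.mul (mul_ne_zero h1 (by omega)) (mul_ne_zero (by omega) h2),
      padicValNat.mul h1 (by omega), padicValNat.mul (by omega) h2]
    ring

variable {F : Type*} [Field F] [Fintype F] {q n : ℕ}

theorem index_NU (hF : Fintype.card F = q ^ 2) (hq : q % 4 = 3) : ¬ 2 ∣ (H709.GmnPSU.NU n q F).index := by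
  have hp : Fact (Nat.Prime 2) := ⟨Nat.prime_two⟩
  have hfin : Finite (GU n F q) := LieClassical.GUOrder.finite_GU n
  intro hdvd
  obtain ⟨h1, h2⟩ := val_prod hq n
  have h3 : Nat.card (GU n F q) = q ^ (n * (n - 1) / 2) * ∏ i ∈ Finset.range n,
      (if Even i then q ^ (i + 1) + 1 else q ^ (i + 1) - 1) := Cfsg.Agent.S0277.result hF n
  have hq2 : ¬ 2 ∣ q := by omega
  have h4 : padicValNat 2 (Nat.card (GU n F q)) = padicValNat 2 ((q + 1) ^ n * n.factorial) := by
    rw [h3, padicValNat.mul (pow_ne_zero _ (by omega)) h1, h2,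
      padicValNat.eq_zero_of_not_dvd (fun h => hq2 (Nat.prime_two.dvd_of_dvd_pow h)), zero_add]
  have e4 := (H709.GmnPSU.NU n q F).card_mul_index
  have h5 : (q + 1) ^ n * n.factorial * 2 ∣ Nat.card (GU n F q) := by
    rw [← e4]
    exact Nat.mul_dvd_mul (H709.GmnPSU.card_dvd_NU hF) hdvd
  have h6 : Nat.card (GU n F q) ≠ 0 := Nat.card_pos.ne'
  have h7 : padicValNat 2 ((q + 1) ^ n * n.factorial * 2) ≤ padicValNat 2 (Nat.card (GU n F q)) :=
    padicValNat_dvd_iff_le h6 |>.1 ((pow_padicValNat_dvd).trans h5)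
  rw [padicValNat.mul (mul_ne_zero (pow_ne_zero _ (by omega)) (Nat.factorial_ne_zero n)) (by norm_num),
    padicValNat_self, ← h4] at h7
  omega

/-- the determinant on `GU` -/
def dt (n : ℕ) (F : Type*) [Field F] (q : ℕ) : GU n F q →* Fˣ :=
  (Matrix.GeneralLinearGroup.det).comp (GU n F q).subtype

omit [Fintype F] in
theorem det_gm {A : GU n F q} (h : A ∈ (dt n F q).ker) : (gm A).det = 1 := by
  have h1 : dt n F q A = 1 := h
  have h2 := congrArg Units.val h1
  exact h2

/-- the elements of determinant one -/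
def toSU (n : ℕ) (F : Type*) [Field F] (q : ℕ) : (dt n F q).ker →* SU n F q where
  toFun k := ⟨⟨gm k.1, det_gm k.2⟩, (LieClassical.SUBasic.mem_SU_iff _).2 fun u v => k.1.2 u v⟩
  map_one' := rfl
  map_mul' a b := rfl

theorem mat_toSU (k : (dt n F q).ker) : mat (toSU n F q k) = gm k.1 := rfl

theorem toSU_surjective : Function.Surjective (toSU n F q) := by
  intro g
  refine ⟨⟨⟨Matrix.GeneralLinearGroup.mkOfDetNeZero (mat g) (by rw [det_mat]; exact one_ne_zero), ?_⟩, ?_⟩, ?_⟩
  · exact (LieClassical.SUBasic.mem_SU_iff _).1 g.2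
  · rw [MonoidHom.mem_ker]
    apply Units.ext
    exact det_mat g
  · apply Subtype.ext
    apply Subtype.ext
    rfl

/-- **The index of the monomial subgroup.** -/
theorem odd_index_Mon (hF : Fintype.card F = q ^ 2) (hq : q % 4 = 3) : Odd (Mon n F q).index := by
  have hfin : Finite (GU n F q) := LieClassical.GUOrder.finite_GU n
  rw [← Nat.not_even_iff_odd, even_iff_two_dvd]
  intro h2
  have hs : Function.Surjective ((pr n F q).comp (toSU n F q)) := pr_surjective.comp toSU_surjective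
  have h1 : ((Mon n F q).comap ((pr n F q).comp (toSU n F q))).index = (Mon n F q).index :=
    index_comap_of_surjective _ hs
  have h3 : (H709.GmnPSU.NU n q F).subgroupOf (dt n F q).ker ≤ (Mon n F q).comap ((pr n F q).comp (toSU n F q)) := by
    intro k hk
    rw [mem_subgroupOf] at hk
    obtain ⟨π, hπ⟩ := hk
    refine ⟨π, toSU n F q k, rfl, fun i => ⟨gm k.1 (π i) i, ?_⟩⟩
    rw [act_def, mat_toSU]
    funext j
    rw [mulVec_single_one, Pi.smul_apply, smul_eq_mul]
    by_cases hj : j = π i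
    · subst hj
      rw [Pi.single_eq_same, mul_one]
      rfl
    · rw [Pi.single_eq_of_ne hj, mul_zero]
      exact hπ j i hj
  have h4 := index_dvd_of_le h3
  rw [h1] at h4
  exact index_NU hF hq (h2.trans (h4.trans (relIndex_dvd_index _ _)))

end Cfsg.Agent.H251.Unf
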