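import Cfsg.Agent.H251.Unf.Basis
import Cfsg.Agent.H251.Unf.Index

/-!
# Normal forms of the elements of `SU_n(q)`, `q` odd, with scalar square (helper251, for S3026)

* `exists_lift`, `exists_root` : an involution of `PSU_n(q)` is the image of `A` with `A² = ν²`, `ν ^ (q + 1) = ±1`;
* `diag_case`, `pair_case` : after conjugation in `GU_n(q)`: `A` is diagonal, resp. swaps pairs of basis vectors;
* `hadamard` : diagonal with `d j = -d i` : conjugate to a monomial matrix with the permutation `(i j)`.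
-/

set_option autoImplicit false
set_option linter.unusedSectionVars false

namespace Cfsg.Agent.H251.Unf

open Cfsg Matrix Subgroup Module
open Cfsg.Agent.LieClassical.HermBasic Cfsg.Agent.LieClassical.HermSiegel
open Cfsg.Agent.ClassicalGeometry.PSUAutBasic Cfsg.Agent.ClassicalGeometry.HermOrtho
open Cfsg.Agent.ClassicalGeometry.PSUAutCount (toAut gm gm_mul gm_one gm_mul_inv gm_inv_mul guConj act_guConj gm_inj
  gm_inv_mulVec gm_mulVec_inv)
open Cfsg.Agent.H880.Cl

variable {F : Type*} [Field F] [Fintype F] {q n : ℕ}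

theorem ringChar_ne (hF : Fintype.card F = q ^ 2) (hodd : Odd q) : ringChar F ≠ 2 := by
  intro h
  have h1 := FiniteField.even_card_iff_char_two.1 h
  have h2 := hodd.pow (n := 2)
  rw [← hF, Nat.odd_iff] at h2
  omega

theorem two_ne (hF : Fintype.card F = q ^ 2) (hodd : Odd q) : (2 : F) ≠ 0 :=
  Ring.two_ne_zero (ringChar_ne hF hodd)

theorem exists_root (hF : Fintype.card F = q ^ 2) (hodd : Odd q) {c : F} (hc : c * c ^ q = 1) :
    ∃ ν : F, ν * ν = c ∧ (ν * ν ^ q = 1 ∨ ν * ν ^ q = -1) := by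
  have hc0 : c ≠ 0 := by
    rintro rfl
    rw [zero_mul] at hc
    exact zero_ne_one hc
  have h1 : IsSquare c := by
    rw [FiniteField.isSquare_iff (ringChar_ne hF hodd) hc0, hF]
    obtain ⟨k, hk⟩ := hodd
    have h2 : q ^ 2 / 2 = (q + 1) * k := by
      have h3 : q ^ 2 = 2 * ((q + 1) * k) + 1 := by rw [hk]; ring
      omega
    rw [h2, pow_mul, pow_succ', hc, one_pow]
  obtain ⟨ν, hν⟩ := h1
  refine ⟨ν, hν.symm, ?_⟩
  rw [hν, mul_pow] at hc
  have h2 : (ν * ν ^ q) * (ν * ν ^ q) = 1 := by rw [← hc]; ring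
  exact mul_self_eq_one_iff.1 h2

theorem exists_lift (hF : Fintype.card F = q ^ 2) (hn : 3 ≤ n) {x : PSU n F q} (hx : x * x = 1) :
    ∃ A : SU n F q, pr n F q A = x ∧ ∃ c : F, c * c ^ q = 1 ∧ ∀ v, act A (act A v) = c • v := by
  obtain ⟨A, rfl⟩ := pr_surjective x
  rw [← map_mul] at hx
  obtain ⟨c, -, hc, hv⟩ := exists_scalar_of_mem_center hF hn ((QuotientGroup.eq_one_iff _).1 hx)
  exact ⟨A, rfl, c, hc, fun v => by rw [← act_mul]; exact hv v⟩

/-- an element with an orthonormal family of columns -/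
theorem exists_col (hF : Fintype.card F = q ^ 2) {b : Fin n → (Fin n → F)}
    (hb : ∀ i j, hermForm n F q (b i) (b j) = if i = j then 1 else 0) :
    ∃ C : GU n F q, ∀ i, gm C⁻¹ *ᵥ Pi.single i 1 = b i := by
  obtain ⟨g, hg, hgx⟩ := exists_GU_of_orthonormal hF hb
  refine ⟨⟨g, hg⟩⁻¹, fun i => ?_⟩
  rw [inv_inv]
  have h1 := hgx (Pi.single i 1)
  rw [Finset.sum_eq_single i (fun j _ hj => by rw [Pi.single_eq_of_ne hj, zero_smul])
    (fun h => absurd (Finset.mem_univ i) h), Pi.single_eq_same, one_smul] at h1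
  exact h1

theorem act_col {C : GU n F q} {b : Fin n → (Fin n → F)} (hb : ∀ i, gm C⁻¹ *ᵥ Pi.single i 1 = b i) {A : SU n F q}
    {i j : Fin n} {a : F} (h : act A (b i) = a • b j) :
    act (guConj C A) (Pi.single i 1) = a • Pi.single j 1 := by
  rw [act_guConj, hb, h, mulVec_smul, ← hb j, gm_mulVec_inv]

theorem nondeg_top (hF : Fintype.card F = q ^ 2) : ∀ u ∈ (⊤ : Submodule F (Fin n → F)),
    (∀ v ∈ (⊤ : Submodule F (Fin n → F)), hermForm n F q u v = 0) → u = 0 :=
  fun _ _ h => herm_nondeg hF fun v => h v trivial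

/-- **Diagonal form.** -/
theorem diag_case (hF : Fintype.card F = q ^ 2) (hodd : Odd q) (A : SU n F q) {μ : F} (hμ : μ * μ ^ q = 1)
    (hAA : ∀ v, act A (act A v) = (μ * μ) • v) :
    ∃ (C : GU n F q) (d : Fin n → F), (∀ i, act (guConj C A) (Pi.single i 1) = d i • Pi.single i 1) ∧
      ∀ i, d i = μ ∨ d i = -μ := by
  obtain ⟨b, -, hb, hbA⟩ := exists_diag_aux hF (two_ne hF hodd) (mat A).mulVecLin (fun u v => herm_act A u v) hμ hAA n ⊤
    (fun _ _ => trivial) (nondeg_top hF) (by rw [finrank_top, finrank_fin_fun])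
  choose ε hε hεA using hbA
  obtain ⟨C, hC⟩ := exists_col hF hb
  refine ⟨C, fun i => ε i * μ, fun i => act_col hC (hεA i), fun i => ?_⟩
  rcases hε i with h | h
  · left; simp only [h, one_mul]
  · right; simp only [h, neg_mul, one_mul]

/-- **Pair form.** -/
theorem pair_case (hF : Fintype.card F = q ^ 2) (hodd : Odd q) (A : SU n F q) {ν : F} (hν : ν * ν ^ q = -1)
    (hAA : ∀ v, act A (act A v) = (ν * ν) • v) :
    ∃ (m : ℕ) (e : Fin 2 × Fin m ≃ Fin n) (C : GU n F q), n = m * 2 ∧
      ∀ i, act (guConj C A) (Pi.single (e (0, i)) 1) = (1 : F) • Pi.single (e (1, i)) 1 ∧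
      act (guConj C A) (Pi.single (e (1, i)) 1) = (ν * ν) • Pi.single (e (0, i)) 1 := by
  obtain ⟨m, b, hm, -, hb, hbA⟩ := exists_pair_aux hF (two_ne hF hodd) (mat A).mulVecLin (fun u v => herm_act A u v) hν
    hAA n ⊤ (fun _ _ => trivial) (nondeg_top hF) (by rw [finrank_top, finrank_fin_fun])
  obtain ⟨e, he⟩ : ∃ e : Fin m × Fin 2 ≃ Fin n, e = finProdFinEquiv.trans (finCongr hm.symm) := ⟨_, rfl⟩
  obtain ⟨C, hC⟩ := exists_col hF (b := fun j => b (e.symm j)) (fun i j => by
    rw [hb]
    simp only [EmbeddingLike.apply_eq_iff_eq])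
  refine ⟨m, (Equiv.prodComm _ _).trans e, C, hm, fun i => ⟨?_, ?_⟩⟩
  · apply act_col hC
    have h1 := (hbA i).1
    simp only [Equiv.trans_apply, Equiv.prodComm_apply, Prod.swap_prod_mk, e.symm_apply_apply, one_smul]
    exact h1
  · apply act_col hC
    have h1 := (hbA i).2
    simp only [Equiv.trans_apply, Equiv.prodComm_apply, Prod.swap_prod_mk, e.symm_apply_apply]
    exact h1

/-- **From diagonal to monomial.** -/
theorem hadamard (hF : Fintype.card F = q ^ 2) (hodd : Odd q) {B : SU n F q} {d : Fin n → F}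
    (hd : ∀ i, act B (Pi.single i 1) = d i • Pi.single i 1) {i j : Fin n} (hij : i ≠ j) (hdij : d j = -d i) :
    ∃ C : GU n F q, SMono (guConj C B) (Equiv.swap i j) := by
  have h2 := two_ne hF hodd
  have h2q : ((2 : F)⁻¹) ^ q = 2⁻¹ := by
    rw [inv_pow]
    congr 1
    have := add_pow_q hF (1 : F) 1
    rw [one_pow, one_add_one_eq_two] at this
    exact this
  obtain ⟨c, hc⟩ := exists_norm_eq hF h2q
  have hc2 : c * c ^ q + c * c ^ q = 1 := by rw [hc, ← two_mul, mul_inv_cancel₀ h2]
  obtain ⟨b, hbdef⟩ : ∃ b : Fin n → (Fin n → F), b = fun k => if k = i then c • (Pi.single i 1 + Pi.single j 1) else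
    if k = j then c • (Pi.single i 1 - Pi.single j 1) else Pi.single k 1 := ⟨_, rfl⟩
  have hbi : b i = c • (Pi.single i 1 + Pi.single j 1) := by rw [hbdef]; simp
  have hbj : b j = c • (Pi.single i 1 - Pi.single j 1) := by rw [hbdef]; simp [hij.symm]
  have hbk : ∀ k, k ≠ i → k ≠ j → b k = Pi.single k 1 := fun k h1 h2 => by rw [hbdef]; simp [h1, h2]
  have hs : ∀ k l : Fin n, hermForm n F q (Pi.single k 1) (Pi.single l 1) = if k = l then 1 else 0 := by
    intro k l
    rw [herm_single_left, one_mul]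
    by_cases h : k = l
    · subst h; rw [Pi.single_eq_same, one_pow, if_pos rfl]
    · rw [Pi.single_eq_of_ne h, zero_pow_q hF, if_neg h]
  have hb : ∀ k l, hermForm n F q (b k) (b l) = if k = l then 1 else 0 := by
    intro k l
    by_cases hk1 : k = i
    · subst hk1
      by_cases hl1 : l = k
      · subst hl1
        rw [hbi, if_pos rfl, herm_smul_left, herm_smul_right, herm_add_left, herm_add_right hF, herm_add_right hF,
          hs, hs, hs, hs, if_pos rfl, if_neg hij, if_neg hij.symm, if_pos rfl]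
        linear_combination hc2
      · by_cases hl2 : l = j
        · subst hl2
          rw [hbi, hbj, if_neg hij, herm_smul_left, herm_smul_right, herm_add_left, herm_sub_right hF,
            herm_sub_right hF, hs, hs, hs, hs, if_pos rfl, if_neg hij, if_neg hij.symm, if_pos rfl]
          ring
        · rw [hbi, hbk l hl1 hl2, if_neg (Ne.symm hl1), herm_smul_left, herm_add_left, hs, hs, if_neg (Ne.symm hl1),
            if_neg (Ne.symm hl2)]
          ring
    · by_cases hk2 : k = j
      · subst hk2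
        by_cases hl1 : l = i
        · subst hl1
          rw [hbi, hbj, if_neg hij.symm, herm_smul_left, herm_smul_right, herm_sub_left, herm_add_right hF,
            herm_add_right hF, hs, hs, hs, hs, if_pos rfl, if_neg hij, if_neg hij.symm, if_pos rfl]
          ring
        · by_cases hl2 : l = k
          · subst hl2
            rw [hbj, if_pos rfl, herm_smul_left, herm_smul_right, herm_sub_left, herm_sub_right hF,
              herm_sub_right hF, hs, hs, hs, hs, if_pos rfl, if_neg hij, if_neg hij.symm, if_pos rfl]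
            linear_combination hc2
          · rw [hbj, hbk l hl1 hl2, if_neg (Ne.symm hl2), herm_smul_left, herm_sub_left, hs, hs, if_neg (Ne.symm hl1),
              if_neg (Ne.symm hl2)]
            ring
      · by_cases hl1 : l = i
        · subst hl1
          rw [hbi, hbk k hk1 hk2, if_neg hk1, herm_smul_right, herm_add_right hF, hs, hs, if_neg hk1, if_neg hk2]
          ring
        · by_cases hl2 : l = j
          · subst hl2
            rw [hbj, hbk k hk1 hk2, if_neg hk2, herm_smul_right, herm_sub_right hF, hs, hs, if_neg hk1, if_neg hk2]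
            ring
          · rw [hbk k hk1 hk2, hbk l hl1 hl2, hs]
  obtain ⟨C, hC⟩ := exists_col hF hb
  refine ⟨C, fun k => ?_⟩
  by_cases hk1 : k = i
  · subst hk1
    refine ⟨d k, act_col hC ?_⟩
    rw [Equiv.swap_apply_left, hbi, hbj, act_smul, act_add, hd, hd, hdij, smul_comm (d k) c, smul_sub, neg_smul,
      sub_eq_add_neg]
  · by_cases hk2 : k = j
    · subst hk2
      refine ⟨d i, act_col hC ?_⟩
      rw [Equiv.swap_apply_right, hbi, hbj, act_smul, act_sub, hd, hd, hdij, smul_comm (d i) c, smul_add, neg_smul,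
        sub_neg_eq_add]
    · refine ⟨d k, act_col hC ?_⟩
      rw [Equiv.swap_apply_of_ne_of_ne hk1 hk2, hbk k hk1 hk2, hd]

end Cfsg.Agent.H251.Unf
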